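import Cfsg.Agent.Linear.Unipotent.Orbits

/-!
# The Bruhat decomposition of `GL_n` and double cosets of parabolic subgroups
-/

set_option autoImplicit false

namespace Cfsg.Agent.Linear.Unipotent

open Cfsg Matrix

variable {F : Type*} [Field F]

/-- Insert a row and a column carrying one entry `c` at their crossing. -/
def ins {n : ℕ} (p q : Fin (n + 1)) (c : F) (A : Matrix (Fin n) (Fin n) F) :
    Matrix (Fin (n + 1)) (Fin (n + 1)) F :=
  fun i j => Fin.succAboveCases p (Fin.succAboveCases q c (fun _ => 0) j)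
    (fun i' => Fin.succAboveCases q 0 (A i') j) i

theorem ins_same {n : ℕ} (p q : Fin (n + 1)) (c : F) (A : Matrix (Fin n) (Fin n) F) :
    ins p q c A p q = c := by simp [ins]

theorem ins_left {n : ℕ} (p q : Fin (n + 1)) (c : F) (A : Matrix (Fin n) (Fin n) F) (j : Fin n) :
    ins p q c A p (q.succAbove j) = 0 := by simp [ins]

theorem ins_right {n : ℕ} (p q : Fin (n + 1)) (c : F) (A : Matrix (Fin n) (Fin n) F) (i : Fin n) :
    ins p q c A (p.succAbove i) q = 0 := by simp [ins]

theorem ins_above {n : ℕ} (p q : Fin (n + 1)) (c : F) (A : Matrix (Fin n) (Fin n) F) (i j : Fin n) :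
    ins p q c A (p.succAbove i) (q.succAbove j) = A i j := by simp [ins]

theorem ins_mul {n : ℕ} (p r q : Fin (n + 1)) (c d : F) (A B : Matrix (Fin n) (Fin n) F) :
    ins p r c A * ins r q d B = ins p q (c * d) (A * B) := by
  ext i j
  rcases Fin.eq_self_or_eq_succAbove p i with rfl | ⟨i, rfl⟩ <;>
    rcases Fin.eq_self_or_eq_succAbove q j with rfl | ⟨j, rfl⟩ <;>
    simp [Matrix.mul_apply, Fin.sum_univ_succAbove _ r, ins_same, ins_left, ins_right, ins_above]

theorem ins_upper {n : ℕ} (p : Fin (n + 1)) (c : F) {A : Matrix (Fin n) (Fin n) F}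
    (hA : A.BlockTriangular id) : (ins p p c A).BlockTriangular id := by
  intro i j hij
  rcases Fin.eq_self_or_eq_succAbove p i with hi | ⟨i, rfl⟩ <;>
    rcases Fin.eq_self_or_eq_succAbove p j with hj | ⟨j, rfl⟩
  · subst hi hj; exact absurd hij (lt_irrefl _)
  · subst hi; exact ins_left ..
  · subst hj; exact ins_right ..
  · rw [ins_above]
    exact hA ((Fin.strictMono_succAbove p).lt_iff_lt.1 hij)

theorem upper_det {n : ℕ} {A : Matrix (Fin n) (Fin n) F} (hA : A.BlockTriangular id) :
    A.det = ∏ i, A i i := Matrix.det_of_isUpperTriangular hA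

theorem ins_upper_det {n : ℕ} (p : Fin (n + 1)) {A : Matrix (Fin n) (Fin n) F}
    (hA : A.BlockTriangular id) (hd : A.det ≠ 0) : (ins p p (1 : F) A).det ≠ 0 := by
  rw [upper_det hA] at hd
  rw [upper_det (ins_upper p 1 hA), Fin.prod_univ_succAbove _ p, ins_same, one_mul]
  simpa [ins_above] using hd

/-- The matrix of a permutation. -/
def permMat (F : Type*) [Field F] {X : Type*} [DecidableEq X] (σ : Equiv.Perm X) : Matrix X X F :=
  fun i j => if σ j = i then 1 else 0

theorem permMat_mul {X : Type*} [DecidableEq X] [Fintype X] (σ τ : Equiv.Perm X) :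
    permMat F σ * permMat F τ = permMat F (σ * τ) := by
  ext i j
  simp only [Matrix.mul_apply, permMat, Equiv.Perm.mul_apply, ite_mul, one_mul, zero_mul, mul_ite,
    mul_one, mul_zero]
  rw [Finset.sum_eq_single (τ j) (fun k _ hk => by simp [Ne.symm hk]) (by simp), if_pos rfl]
  split_ifs <;> simp_all

theorem permMat_one {X : Type*} [DecidableEq X] : permMat F (1 : Equiv.Perm X) = 1 := by
  ext i j
  simp [permMat, Matrix.one_apply, eq_comm]

/-- Elimination: upper triangular row and column operations reach a monomial matrix. -/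
theorem exists_monomial : ∀ (n : ℕ) (M : Matrix (Fin n) (Fin n) F), M.det ≠ 0 →
    ∃ U V : Matrix (Fin n) (Fin n) F, U.BlockTriangular id ∧ V.BlockTriangular id ∧ U.det ≠ 0 ∧
      V.det ≠ 0 ∧ ∃ (σ : Equiv.Perm (Fin n)) (d : Fin n → F),
        U * M * V = permMat F σ * Matrix.diagonal d := by
  intro n
  induction n with
  | zero => exact fun M _ => ⟨1, 1, Matrix.blockTriangular_one, Matrix.blockTriangular_one,
      by simp, by simp, 1, fun i => i.elim0, Subsingleton.elim _ _⟩
  | succ n ih =>
    intro M hM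
    classical
    have hne : (Finset.univ.filter fun i => M i 0 ≠ 0).Nonempty := by
      by_contra h
      rw [Finset.not_nonempty_iff_eq_empty, Finset.filter_eq_empty_iff] at h
      exact hM (Matrix.det_eq_zero_of_column_eq_zero 0 fun i => by simpa using h (Finset.mem_univ i))
    set p := (Finset.univ.filter fun i => M i 0 ≠ 0).max' hne
    have hp : M p 0 ≠ 0 := (Finset.mem_filter.1 (Finset.max'_mem _ hne)).2
    have hlow : ∀ i, p < i → M i 0 = 0 := fun i hi => by
      by_contra h
      exact absurd (Finset.le_max' _ i (Finset.mem_filter.2 ⟨Finset.mem_univ _, h⟩)) (not_le.2 hi)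
    let α : Fin (n + 1) → F := fun i => if i = p then 0 else M i 0 / M p 0
    let U₁ : Matrix (Fin (n + 1)) (Fin (n + 1)) F := 1 - vecMulVec α (Pi.single p 1)
    have hU₁ : U₁.BlockTriangular id := by
      intro i j hij
      simp only [id] at hij
      rcases eq_or_ne j p with rfl | hj
      · simp [U₁, α, vecMulVec_apply, Matrix.one_apply, hij.ne', hlow i hij]
      · simp [U₁, vecMulVec_apply, Matrix.one_apply, hij.ne', Pi.single_apply, hj]
    have hU₁d : U₁.det = 1 := by
      rw [upper_det hU₁]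
      refine Finset.prod_eq_one fun i _ => ?_
      rcases eq_or_ne i p with h | h <;> simp [U₁, α, vecMulVec_apply, Pi.single_apply, h]
    set M₁ := U₁ * M with hM₁
    have hM₁e : ∀ i j, M₁ i j = M i j - α i * M p j := fun i j => by
      simp [hM₁, U₁, Matrix.sub_mul, Matrix.vecMulVec_mul, vecMulVec_apply]
    have hcol : ∀ i, i ≠ p → M₁ i 0 = 0 := fun i hi => by
      simp [hM₁e, α, hi, hp]
    have hpiv : M₁ p 0 = M p 0 := by simp [hM₁e, α]
    let β : Fin (n + 1) → F := fun j => if j = 0 then 0 else M₁ p j / M p 0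
    let V₁ : Matrix (Fin (n + 1)) (Fin (n + 1)) F := 1 - vecMulVec (Pi.single 0 1) β
    have hV₁ : V₁.BlockTriangular id := by
      intro i j hij
      simp only [id] at hij
      have : i ≠ 0 := fun h => absurd hij (by simp [h])
      simp [V₁, vecMulVec_apply, Matrix.one_apply, hij.ne', this]
    have hV₁d : V₁.det = 1 := by
      rw [upper_det hV₁]
      refine Finset.prod_eq_one fun i _ => ?_
      rcases eq_or_ne i 0 with h | h <;> simp [V₁, β, vecMulVec_apply, h]
    have hM₂e : ∀ i j, (M₁ * V₁) i j = M₁ i j - M₁ i 0 * β j := fun i j => by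
      simp [V₁, Matrix.mul_sub, Matrix.mul_vecMulVec, vecMulVec_apply]
    set A : Matrix (Fin n) (Fin n) F := fun i j => (M₁ * V₁) (p.succAbove i) ((0 : Fin (n + 1)).succAbove j)
      with hAdef
    have hM₂ : M₁ * V₁ = ins p 0 (M p 0) A := by
      ext i j
      rcases Fin.eq_self_or_eq_succAbove p i with rfl | ⟨i, rfl⟩ <;>
        rcases Fin.eq_self_or_eq_succAbove (0 : Fin (n + 1)) j with rfl | ⟨j, rfl⟩
      · rw [ins_same, hM₂e, hpiv]; simp [β]
      · rw [ins_left, hM₂e, hpiv]
        simp [β, hp, mul_div_cancel₀]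
      · rw [ins_right, hM₂e, hcol _ (Fin.succAbove_ne p i)]; simp
      · rw [ins_above]
    have hdM₂ : (M₁ * V₁).det ≠ 0 := by
      rw [Matrix.det_mul, hM₁, Matrix.det_mul, hU₁d, hV₁d, one_mul, mul_one]; exact hM
    have hA : A.det ≠ 0 := by
      intro h
      obtain ⟨v, hv0, hv⟩ := Matrix.exists_mulVec_eq_zero_iff.2 h
      apply hdM₂
      rw [hM₂, ← Matrix.exists_mulVec_eq_zero_iff]
      refine ⟨Fin.cons 0 v, fun h => hv0 (funext fun i => by simpa using congrFun h i.succ), ?_⟩
      funext i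
      simp only [Matrix.mulVec, dotProduct, Fin.sum_univ_succ, Fin.cons_zero, mul_zero, zero_add,
        Fin.cons_succ, ← Fin.succAbove_zero_apply, Pi.zero_apply]
      rcases Fin.eq_self_or_eq_succAbove p i with hi | ⟨i, rfl⟩
      · subst hi
        exact Finset.sum_eq_zero fun l _ => by rw [ins_left, zero_mul]
      · simp only [ins_above]
        exact congrFun hv i
    obtain ⟨U, V, hU, hV, hUd, hVd, σ, d, hσ⟩ := ih A hA
    refine ⟨ins p p 1 U * U₁, V₁ * ins 0 0 1 V, (ins_upper p 1 hU).mul hU₁, hV₁.mul (ins_upper 0 1 hV),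
      by rw [Matrix.det_mul, hU₁d, mul_one]; exact ins_upper_det p hU hUd,
      by rw [Matrix.det_mul, hV₁d, one_mul]; exact ins_upper_det 0 hV hVd, ?_⟩
    have hprod : ins p p 1 U * U₁ * M * (V₁ * ins 0 0 1 V) = ins p 0 (M p 0) (U * A * V) := by
      calc ins p p 1 U * U₁ * M * (V₁ * ins 0 0 1 V)
          = ins p p 1 U * (M₁ * V₁) * ins 0 0 1 V := by rw [hM₁]; simp only [Matrix.mul_assoc]
        _ = _ := by rw [hM₂, ins_mul, ins_mul, one_mul, mul_one]
    rw [hprod, hσ]
    let f : Fin (n + 1) → Fin (n + 1) := Fin.cons p fun j => p.succAbove (σ j)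
    have hf : Function.Injective f := Fin.cons_injective_iff.2
      ⟨by rintro ⟨j, hj⟩; exact Fin.succAbove_ne p _ hj,
        (Fin.succAbove_right_injective).comp σ.injective⟩
    refine ⟨Equiv.ofBijective f (Finite.injective_iff_bijective.1 hf), Fin.cons (M p 0) d, ?_⟩
    ext i j
    rcases Fin.eq_self_or_eq_succAbove (0 : Fin (n + 1)) j with rfl | ⟨j, rfl⟩ <;>
      rcases Fin.eq_self_or_eq_succAbove p i with rfl | ⟨i, rfl⟩
    · simp [ins_same, permMat, f]
    · simp [ins_right, permMat, f, (Fin.succAbove_ne p i).symm]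
    · rw [ins_left, Fin.succAbove_zero_apply]
      simp [permMat, f, Fin.succAbove_ne p _]
    · rw [ins_above, Fin.succAbove_zero_apply]
      simp [permMat, f, Fin.succAbove_right_inj]

variable {n : ℕ}

/-- The permutation element. -/
def permGL (F : Type*) [Field F] (σ : Equiv.Perm (Fin n)) : GL (Fin n) F where
  val := permMat F σ
  inv := permMat F σ⁻¹
  val_inv := by rw [permMat_mul, mul_inv_cancel, permMat_one]
  inv_val := by rw [permMat_mul, inv_mul_cancel, permMat_one]

theorem permGL_mul (σ τ : Equiv.Perm (Fin n)) : permGL F σ * permGL F τ = permGL F (σ * τ) :=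
  Units.ext (permMat_mul σ τ)

/-- The Bruhat decomposition. -/
theorem exists_bruhat_gl (g : GL (Fin n) F) : ∃ b ∈ upperTriangularGL n F, ∃ b' ∈ upperTriangularGL n F,
    ∃ σ : Equiv.Perm (Fin n), g = b * permGL F σ * b' := by
  obtain ⟨U, V, hU, hV, hUd, hVd, σ, d, e⟩ := exists_monomial n (g : Matrix (Fin n) (Fin n) F)
    ((Matrix.isUnit_iff_isUnit_det _).1 g.isUnit).ne_zero
  let u : GL (Fin n) F := GeneralLinearGroup.mkOfDetNeZero U hUd
  let v : GL (Fin n) F := GeneralLinearGroup.mkOfDetNeZero V hVd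
  have hdd : (Matrix.diagonal d).det ≠ 0 := by
    have h := congrArg Matrix.det e
    rw [Matrix.det_mul, Matrix.det_mul, Matrix.det_mul] at h
    intro h0
    rw [h0, mul_zero] at h
    exact mul_ne_zero (mul_ne_zero hUd ((Matrix.isUnit_iff_isUnit_det _).1 g.isUnit).ne_zero) hVd h
  let t : GL (Fin n) F := GeneralLinearGroup.mkOfDetNeZero (Matrix.diagonal d) hdd
  have ht : t ∈ upperTriangularGL n F := Matrix.blockTriangular_diagonal _
  have hu : u ∈ upperTriangularGL n F := hU
  have hv : v ∈ upperTriangularGL n F := hV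
  have key : u * g * v = permGL F σ * t := Units.ext e
  refine ⟨u⁻¹, inv_mem hu, t * v⁻¹, mul_mem ht (inv_mem hv), σ, ?_⟩
  calc g = u⁻¹ * (u * g * v) * v⁻¹ := by group
    _ = _ := by rw [key]; group

section Ranks

variable {A : Type*} [Fintype A] [LinearOrder A] (a b : Fin n → A)

/-- The ranks of the corner submatrices. -/
noncomputable def rkInv (g : GL (Fin n) F) : A → A → ℕ := fun x y =>
  ((g : Matrix (Fin n) (Fin n) F).submatrix (Subtype.val : {i // x ≤ a i} → Fin n)
    (Subtype.val : {j // b j ≤ y} → Fin n)).rank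

omit [Fintype A] in
theorem submatrix_mul_left {h : Matrix (Fin n) (Fin n) F} (hh : h.BlockTriangular a)
    {κ : Type*} (g : Matrix (Fin n) κ F) (x : A) :
    (h * g).submatrix (Subtype.val : {i // x ≤ a i} → Fin n) id =
      h.submatrix (Subtype.val : {i // x ≤ a i} → Fin n) (Subtype.val : {i // x ≤ a i} → Fin n) *
        g.submatrix (Subtype.val : {i // x ≤ a i} → Fin n) id := by
  ext i j
  simp only [Matrix.submatrix_apply, Matrix.mul_apply, id]
  refine ((Finset.sum_subtype (Finset.univ.filter fun k => x ≤ a k) (by simp) fun k => h i k * g k j).symm.trans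
    (Finset.sum_filter_of_ne fun k _ hk => ?_)).symm
  by_contra hc
  exact hk (by rw [hh ((not_le.1 hc).trans_le i.2), zero_mul])

omit [Fintype A] in
theorem submatrix_mul_right {k : Matrix (Fin n) (Fin n) F} (hk : k.BlockTriangular b)
    {κ : Type*} (g : Matrix κ (Fin n) F) (y : A) :
    (g * k).submatrix id (Subtype.val : {j // b j ≤ y} → Fin n) =
      g.submatrix id (Subtype.val : {j // b j ≤ y} → Fin n) *
        k.submatrix (Subtype.val : {j // b j ≤ y} → Fin n) (Subtype.val : {j // b j ≤ y} → Fin n) := by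
  ext i j
  simp only [Matrix.submatrix_apply, Matrix.mul_apply, id]
  refine ((Finset.sum_subtype (Finset.univ.filter fun l => b l ≤ y) (by simp) fun l => g i l * k l j).symm.trans
    (Finset.sum_filter_of_ne fun l _ hl => ?_)).symm
  by_contra hc
  exact hl (by rw [hk (j.2.trans_lt (not_le.1 hc)), mul_zero])

omit [Fintype A] in
theorem rkInv_le {h k : GL (Fin n) F} (hh : (h : Matrix (Fin n) (Fin n) F).BlockTriangular a)
    (hk : (k : Matrix (Fin n) (Fin n) F).BlockTriangular b) (g : GL (Fin n) F) (x y : A) :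
    rkInv a b (h * g * k) x y ≤ rkInv a b g x y := by
  let R : {i // x ≤ a i} → Fin n := Subtype.val
  let C : {j // b j ≤ y} → Fin n := Subtype.val
  have h1 := submatrix_mul_left a hh ((g : Matrix (Fin n) (Fin n) F) * (k : Matrix (Fin n) (Fin n) F)) x
  have h2 := submatrix_mul_right b hk ((g : Matrix (Fin n) (Fin n) F).submatrix R id) y
  have e : ((h * g * k : GL (Fin n) F) : Matrix (Fin n) (Fin n) F).submatrix R C =
      (h : Matrix (Fin n) (Fin n) F).submatrix R R * ((g : Matrix (Fin n) (Fin n) F).submatrix R C *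
        (k : Matrix (Fin n) (Fin n) F).submatrix C C) := by
    rw [Units.val_mul, Units.val_mul, Matrix.mul_assoc]
    ext i j
    rw [show ((h : Matrix (Fin n) (Fin n) F) * ((g : Matrix (Fin n) (Fin n) F) *
        (k : Matrix (Fin n) (Fin n) F))).submatrix R C i j =
      (((h : Matrix (Fin n) (Fin n) F) * ((g : Matrix (Fin n) (Fin n) F) *
        (k : Matrix (Fin n) (Fin n) F))).submatrix R id) i (C j) from rfl, h1]
    simp only [Matrix.mul_apply, Matrix.submatrix_apply, id]
    refine Finset.sum_congr rfl fun l _ => ?_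
    congr 1
    exact congrFun (congrFun h2 l) j
  unfold rkInv
  rw [e]
  exact (Matrix.rank_mul_le_right _ _).trans (Matrix.rank_mul_le_left _ _)

omit [Fintype A] in
theorem rkInv_invariant {h k : GL (Fin n) F} (hh : (h : Matrix (Fin n) (Fin n) F).BlockTriangular a)
    (hk : (k : Matrix (Fin n) (Fin n) F).BlockTriangular b) (g : GL (Fin n) F) :
    rkInv a b (h * g * k) = rkInv a b g := by
  funext x y
  refine le_antisymm (rkInv_le a b hh hk g x y) ?_
  have hh' : ((h⁻¹ : GL (Fin n) F) : Matrix (Fin n) (Fin n) F).BlockTriangular a := by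
    have : Invertible (h : Matrix (Fin n) (Fin n) F) := h.invertible
    rw [Matrix.coe_units_inv]
    exact Matrix.blockTriangular_inv_of_blockTriangular hh
  have hk' : ((k⁻¹ : GL (Fin n) F) : Matrix (Fin n) (Fin n) F).BlockTriangular b := by
    have : Invertible (k : Matrix (Fin n) (Fin n) F) := k.invertible
    rw [Matrix.coe_units_inv]
    exact Matrix.blockTriangular_inv_of_blockTriangular hk
  conv_lhs => rw [show g = h⁻¹ * (h * g * k) * k⁻¹ by group]
  exact rkInv_le a b hh' hk' _ x y

/-- Cumulative sums towards a corner. -/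
def cum (N : A → A → ℕ) : A → A → ℕ := fun x y =>
  ∑ p ∈ Finset.univ.filter (fun p : A × A => x ≤ p.1 ∧ p.2 ≤ y), N p.1 p.2

theorem cum_injective : Function.Injective (cum : (A → A → ℕ) → A → A → ℕ) := by
  intro N N' h
  by_contra hne
  set D := Finset.univ.filter fun p : A × A => N p.1 p.2 ≠ N' p.1 p.2
  have hD : D.Nonempty := by
    by_contra hc
    rw [Finset.not_nonempty_iff_eq_empty, Finset.filter_eq_empty_iff] at hc
    exact hne (funext fun x => funext fun y => not_not.1 (hc (Finset.mem_univ (x, y))))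
  obtain ⟨p, hp, hmax⟩ := D.exists_max_image
    (fun p => toLex (p.1, OrderDual.toDual p.2)) hD
  have h2 := congrFun (congrFun h p.1) p.2
  have hmem : p ∈ Finset.univ.filter (fun q : A × A => p.1 ≤ q.1 ∧ q.2 ≤ p.2) := by simp
  unfold cum at h2
  rw [← Finset.add_sum_erase _ _ hmem, ← Finset.add_sum_erase _ _ hmem] at h2
  have hrest : ∀ q ∈ (Finset.univ.filter fun q : A × A => p.1 ≤ q.1 ∧ q.2 ≤ p.2).erase p,
      N q.1 q.2 = N' q.1 q.2 := by
    intro q hq
    rw [Finset.mem_erase, Finset.mem_filter] at hq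
    obtain ⟨hqp, -, h1, h3⟩ := hq
    by_contra hc
    have := hmax q (Finset.mem_filter.2 ⟨Finset.mem_univ _, hc⟩)
    rw [Prod.Lex.toLex_le_toLex, OrderDual.toDual_le_toDual] at this
    rcases this with h4 | ⟨h4, h5⟩
    · exact absurd h1 (not_le.2 h4)
    · exact hqp (Prod.ext h4 (le_antisymm h3 h5))
  rw [Finset.sum_congr rfl hrest] at h2
  exact (Finset.mem_filter.1 hp).2 (by omega)

theorem rkInv_permGL (σ : Equiv.Perm (Fin n)) :
    rkInv a b (permGL F σ) = cum (meet a b σ) := by
  classical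
  funext x y
  have hsum : cum (meet a b σ) x y = Fintype.card {i : Fin n // x ≤ a (σ i) ∧ b i ≤ y} := by
    simp only [cum, meet, Fintype.card_subtype]
    rw [Finset.card_eq_sum_card_fiberwise (f := fun i => (a (σ i), b i))
      (t := Finset.univ.filter fun p : A × A => x ≤ p.1 ∧ p.2 ≤ y) (fun i hi => by simpa using hi)]
    refine Finset.sum_congr rfl fun p hp => congrArg Finset.card ?_
    ext i
    simp only [Finset.mem_filter, Finset.mem_univ, true_and, Prod.ext_iff] at hp ⊢
    exact ⟨fun h => ⟨⟨h.1 ▸ hp.1, h.2 ▸ hp.2⟩, h⟩, fun h => h.2⟩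
  rw [hsum]
  set K := {i : Fin n // x ≤ a (σ i) ∧ b i ≤ y}
  set S := (permMat F σ).submatrix (Subtype.val : {i // x ≤ a i} → Fin n)
    (Subtype.val : {j // b j ≤ y} → Fin n) with hS
  change S.rank = _
  let P : Matrix {i // x ≤ a i} K F := Matrix.of fun r k => if σ k.1 = r.1 then 1 else 0
  let Q : Matrix K {j // b j ≤ y} F := Matrix.of fun k c => if k.1 = c.1 then 1 else 0
  let P' : Matrix K {i // x ≤ a i} F := Matrix.of fun k r => if σ k.1 = r.1 then 1 else 0
  let Q' : Matrix {j // b j ≤ y} K F := Matrix.of fun c k => if k.1 = c.1 then 1 else 0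
  have e1 : S = P * Q := by
    ext r c
    simp only [hS, Matrix.submatrix_apply, permMat, Matrix.mul_apply, Matrix.of_apply, P, Q, mul_ite, mul_one, mul_zero]
    by_cases hc : x ≤ a (σ c.1)
    · rw [Finset.sum_eq_single ⟨c.1, hc, c.2⟩ (fun (k : K) _ hk => if_neg fun h => hk (Subtype.ext h))
        (by simp), if_pos rfl]
    · rw [Finset.sum_eq_zero, if_neg fun (h : σ c.1 = r.1) => hc (h.symm ▸ r.2)]
      intro k _
      refine if_neg fun (h : k.1 = c.1) => hc ?_
      rw [← h]
      exact k.2.1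
  have e2 : P' * S * Q' = 1 := by
    ext k k'
    simp only [hS, Matrix.mul_apply, Matrix.submatrix_apply, permMat, Matrix.of_apply, P', Q']
    rw [Finset.sum_eq_single ⟨k'.1, k'.2.2⟩ (fun c _ hc => by
        rw [if_neg (fun h => hc (Subtype.ext h.symm)), mul_zero]) (by simp),
      Finset.sum_eq_single ⟨σ k.1, k.2.1⟩ (fun r _ hr => by
        rw [if_neg (fun h => hr (Subtype.ext h.symm)), zero_mul]) (by simp)]
    simp only [mul_ite, ite_mul, one_mul, zero_mul, mul_one, mul_zero, if_true, σ.injective.eq_iff, Matrix.one_apply]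
    by_cases h : k = k'
    · subst h; simp
    · rw [if_neg h]; simp [fun h' : k'.1 = k.1 => h (Subtype.ext h'.symm)]
      intro h'; exact absurd (Subtype.ext h') (Ne.symm h)
  refine le_antisymm ?_ ?_
  · rw [e1]
    exact (Matrix.rank_mul_le_left P Q).trans (Matrix.rank_le_card_width P)
  · calc Fintype.card K = (1 : Matrix K K F).rank := Matrix.rank_one.symm
      _ ≤ S.rank := by
        rw [← e2]
        exact (Matrix.rank_mul_le_left _ _).trans (Matrix.rank_mul_le_right _ _)

end Ranks

theorem parabolic_mem_iff {μ : Fin n → ℕ} (hμ : ∑ i, μ i = n) (g : GL (Fin n) F) :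
    g ∈ parabolicGL n F μ ↔ (g : Matrix (Fin n) (Fin n) F).BlockTriangular (label hμ) :=
  Iff.rfl

theorem upper_le_parabolic {μ : Fin n → ℕ} : upperTriangularGL n F ≤ parabolicGL n F μ :=
  fun _ hg i j hij => hg (lt_of_not_ge fun h => absurd (compLabel_mono μ h) (not_le.2 hij))

/-- The average on the general linear group counts matrices with the two margins. -/
theorem average_parabolic [Fintype F] [DecidableEq F] {ν μ : Fin n → ℕ} (hν : ∑ i, ν i = n)
    (hμ : ∑ i, μ i = n) :
    (Nat.card (GL (Fin n) F) : ℂ)⁻¹ * ∑ g : GL (Fin n) F,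
        fixedPointCharacter (parabolicGL n F ν) g * fixedPointCharacter (parabolicGL n F μ) g =
      (Nat.card (Margins ν μ) : ℂ) := by
  set a := label hν
  set b := label hμ
  have hperm : ∀ {c : Fin n → Fin n} {σ : Equiv.Perm (Fin n)}, σ ∈ fibreGroup c →
      (permGL F σ : Matrix (Fin n) (Fin n) F).BlockTriangular c := by
    intro c σ hσ i j hij
    refine if_neg fun h => ?_
    rw [← h, hσ j] at hij
    exact lt_irrefl _ hij
  have hJ : ∀ h ∈ parabolicGL n F ν, ∀ k ∈ parabolicGL n F μ, ∀ g,
      rkInv a b (h * g * k) = rkInv a b g := fun h hh k hk g =>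
    rkInv_invariant a b ((parabolic_mem_iff hν h).1 hh) ((parabolic_mem_iff hμ k).1 hk) g
  have hnorm : ∀ g : GL (Fin n) F, ∃ σ : Equiv.Perm (Fin n), rkInv a b g = cum (meet a b σ) ∧
      ∃ h ∈ parabolicGL n F ν, ∃ k ∈ parabolicGL n F μ, g = h * permGL F σ * k := by
    intro g
    obtain ⟨x, hx, y, hy, σ, rfl⟩ := exists_bruhat_gl g
    exact ⟨σ, by rw [hJ x (upper_le_parabolic hx) y (upper_le_parabolic hy), rkInv_permGL],
      x, upper_le_parabolic hx, y, upper_le_parabolic hy, rfl⟩
  rw [average_fixed_mul _ _ (rkInv a b) hJ ?_]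
  · have hrange : Set.range (rkInv a b : GL (Fin n) F → _) = cum '' Set.range (meet a b) := by
      ext N
      constructor
      · rintro ⟨g, rfl⟩
        obtain ⟨σ, h, -⟩ := hnorm g
        exact ⟨_, ⟨σ, rfl⟩, h.symm⟩
      · rintro ⟨_, ⟨σ, rfl⟩, rfl⟩
        exact ⟨permGL F σ, rkInv_permGL a b σ⟩
    rw [hrange, Nat.card_image_of_injective cum_injective, range_meet]
    simp only [a, b, card_label_fiber]
  · intro g g' e
    obtain ⟨σ, hs, x, hx, y, hy, rfl⟩ := hnorm g
    obtain ⟨σ', hs', x', hx', y', hy', rfl⟩ := hnorm g'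
    rw [hs, hs'] at e
    obtain ⟨h, hh, k, hk, rfl⟩ := meet_separates a b σ σ' (cum_injective e)
    refine ⟨x' * permGL F h * x⁻¹, mul_mem (mul_mem hx' ((parabolic_mem_iff hν _).2 (hperm hh))) (inv_mem hx),
      y⁻¹ * permGL F k * y', mul_mem (mul_mem (inv_mem hy) ((parabolic_mem_iff hμ _).2 (hperm hk))) hy', ?_⟩
    rw [← permGL_mul, ← permGL_mul]
    group

end Cfsg.Agent.Linear.Unipotent
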