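import Mathlib
import Cfsg.Prelude
import Cfsg.Agent.Chars.Induced
import Cfsg.Agent.Chars.Gen

/-!
# Permutation characters, pairs of cosets, block labels, and double cosets of Young subgroups
-/

set_option autoImplicit false

namespace Cfsg.Agent.Linear.Unipotent

open Cfsg

section Generic

variable {G : Type*} [Group G] [Fintype G]

theorem fixedPointCharacter_eq_indFun (H : Subgroup G) :
    fixedPointCharacter H = indFun H (fun _ => (1 : ℂ)) := by
  classical
  funext g
  have hval : ∀ y : G, extendByZero H (fun _ => (1 : ℂ)) y = if y ∈ H then (1 : ℂ) else 0 := by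
    intro y
    split_ifs with h
    · rw [Cfsg.Agent.Chars.extendByZero_of_mem H _ h]
    · rw [Cfsg.Agent.Chars.extendByZero_of_not_mem H _ h]
  have hset : {x : G | x⁻¹ * g * x ∈ H} = QuotientGroup.mk ⁻¹' MulAction.fixedBy (G ⧸ H) g := by
    ext x
    simp only [Set.mem_ofPred_eq, Set.mem_preimage, MulAction.mem_fixedBy]
    rw [eq_comm, MulAction.Quotient.smul_mk, QuotientGroup.eq, smul_eq_mul, ← mul_assoc]
  rw [fixedPointCharacter, indFun, Finset.sum_congr rfl fun x _ => hval _, Finset.sum_boole,
    show (Finset.univ.filter fun x : G => x⁻¹ * g * x ∈ H).card = Nat.card {x : G | x⁻¹ * g * x ∈ H} by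
      simp [Nat.card_eq_fintype_card, Fintype.card_subtype],
    hset, Nat.card_congr (QuotientGroup.preimageMkEquivSubgroupProdSet H _), Nat.card_prod,
    Nat.cast_mul, ← mul_assoc, inv_mul_cancel₀ (Nat.cast_ne_zero.2 Nat.card_pos.ne'), one_mul]

theorem isCharacter_fixedPointCharacter (H : Subgroup G) : IsCharacter G (fixedPointCharacter H) := by
  rw [fixedPointCharacter_eq_indFun]
  exact Cfsg.Agent.Chars.isCharacter_indFun H Cfsg.Agent.Chars.isCharacter_one

omit [Fintype G] in
theorem fixedPointCharacter_one (H : Subgroup G) :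
    fixedPointCharacter H 1 = (Nat.card (G ⧸ H) : ℂ) := by
  rw [fixedPointCharacter, MulAction.fixedBy_one_eq_univ, Nat.card_univ]

/-- The average of a product of two permutation characters counts double cosets. -/
theorem average_fixed_mul (H K : Subgroup G) {T : Type*} (J : G → T)
    (hinv : ∀ h ∈ H, ∀ k ∈ K, ∀ g, J (h * g * k) = J g)
    (hsep : ∀ g g', J g = J g' → ∃ h ∈ H, ∃ k ∈ K, g' = h * g * k) :
    (Nat.card G : ℂ)⁻¹ * ∑ g : G, fixedPointCharacter H g * fixedPointCharacter K g =
      (Nat.card (Set.range J) : ℂ) := by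
  classical
  let X := (G ⧸ H) × (G ⧸ K)
  have hprod : ∀ g : G, Fintype.card (MulAction.fixedBy X g) =
      Nat.card (MulAction.fixedBy (G ⧸ H) g) * Nat.card (MulAction.fixedBy (G ⧸ K) g) := by
    intro g
    rw [← Nat.card_eq_fintype_card, ← Nat.card_prod]
    exact Nat.card_congr ((Equiv.subtypeEquivRight fun p : X => by
      exact Prod.ext_iff).trans (Equiv.subtypeProdEquivProd))
  let inv : X → T := fun p => Quotient.liftOn₂' p.1 p.2 (fun x y => J (x⁻¹ * y)) (by
    intro a b a' b' ha hb
    rw [QuotientGroup.leftRel_apply] at ha hb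
    rw [show a⁻¹ * b = (a⁻¹ * a') * (a'⁻¹ * b') * (b⁻¹ * b')⁻¹ by group]
    exact hinv _ ha _ (inv_mem hb) _)
  have hcl : ∀ p q : X, MulAction.orbitRel G X p q ↔ inv p = inv q := by
    rintro ⟨x, y⟩ ⟨x', y'⟩
    induction x using QuotientGroup.induction_on with | _ x => ?_
    induction y using QuotientGroup.induction_on with | _ y => ?_
    induction x' using QuotientGroup.induction_on with | _ x' => ?_
    induction y' using QuotientGroup.induction_on with | _ y' => ?_
    rw [MulAction.orbitRel_apply, MulAction.mem_orbit_iff]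
    change (∃ g : G, g • ((x' : G ⧸ H), (y' : G ⧸ K)) = ((x : G ⧸ H), (y : G ⧸ K))) ↔ J (x⁻¹ * y) = J (x'⁻¹ * y')
    constructor
    · rintro ⟨g, hg⟩
      simp only [Prod.smul_mk, MulAction.Quotient.smul_mk, smul_eq_mul, Prod.mk.injEq,
        QuotientGroup.eq] at hg
      conv_rhs => rw [show x'⁻¹ * y' = ((g * x')⁻¹ * x) * (x⁻¹ * y) * ((g * y')⁻¹ * y)⁻¹ by group]
      exact (hinv _ hg.1 _ (inv_mem hg.2) _).symm
    · intro hJ
      obtain ⟨h, hh, k, hk, e⟩ := hsep _ _ hJ.symm
      refine ⟨x * h * x'⁻¹, ?_⟩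
      simp only [Prod.smul_mk, MulAction.Quotient.smul_mk, smul_eq_mul, Prod.mk.injEq,
        QuotientGroup.eq]
      refine ⟨?_, ?_⟩
      · rw [show (x * h * x'⁻¹ * x')⁻¹ * x = h⁻¹ by group]
        exact inv_mem hh
      · rw [show (x * h * x'⁻¹ * y')⁻¹ * y = (h * (x'⁻¹ * y'))⁻¹ * (x⁻¹ * y) by group, e,
          show (h * (x'⁻¹ * y'))⁻¹ * (h * (x'⁻¹ * y') * k) = k by group]
        exact hk
  let φ : MulAction.orbitRel.Quotient G X → Set.range J := fun o =>
    Quotient.liftOn' o (fun p => ⟨inv p, by
      obtain ⟨x, y⟩ := p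
      induction x using QuotientGroup.induction_on with | _ x => ?_
      induction y using QuotientGroup.induction_on with | _ y => ?_
      exact ⟨x⁻¹ * y, rfl⟩⟩) (fun p q h => Subtype.ext ((hcl p q).1 h))
  have hφ : Function.Bijective φ := by
    constructor
    · intro o o' h
      induction o using Quotient.inductionOn' with | _ p => ?_
      induction o' using Quotient.inductionOn' with | _ q => ?_
      exact Quotient.sound' ((hcl p q).2 (congrArg Subtype.val h))
    · rintro ⟨t, g, rfl⟩
      refine ⟨Quotient.mk'' (((1 : G) : G ⧸ H), (g : G ⧸ K)), Subtype.ext ?_⟩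
      change J (1⁻¹ * g) = J g
      rw [inv_one, one_mul]
  rw [← Nat.card_eq_of_bijective φ hφ]
  simp only [fixedPointCharacter, ← Nat.cast_mul, ← hprod, ← Nat.cast_sum]
  rw [MulAction.sum_card_fixedBy_eq_card_orbits_mul_card_group, Nat.cast_mul, mul_comm (Nat.cast _),
    ← mul_assoc, ← Nat.card_eq_fintype_card, inv_mul_cancel₀ (Nat.cast_ne_zero.2 Nat.card_pos.ne'),
    one_mul, ← Nat.card_eq_fintype_card]

end Generic

section Labels

variable {n : ℕ} (μ : Fin n → ℕ)

/-- The partial sums of a composition. -/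
def psum (k : ℕ) : ℕ := ∑ i ∈ Finset.univ.filter (fun i : Fin n => i.val < k), μ i

theorem compLabel_eq (i : Fin n) :
    compLabel μ i = (Finset.univ.filter fun j : Fin n => psum μ (j.val + 1) ≤ i.val).card := by
  unfold compLabel psum
  congr 1
  refine Finset.filter_congr fun j _ => ?_
  rw [Finset.filter_congr fun k _ => (Fin.le_def.trans Nat.lt_succ_iff.symm : k ≤ j ↔ _)]

theorem psum_mono : Monotone (psum μ) := fun _ _ h => Finset.sum_le_sum_of_subset (by
  intro i
  simp only [Finset.mem_filter]
  exact fun hi => ⟨hi.1, hi.2.trans_le h⟩)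

theorem psum_succ (j : Fin n) : psum μ (j.val + 1) = psum μ j.val + μ j := by
  unfold psum
  rw [show Finset.univ.filter (fun i : Fin n => i.val < j.val + 1) =
      insert j (Finset.univ.filter fun i : Fin n => i.val < j.val) by
    ext i; simp [Fin.ext_iff]; omega, Finset.sum_insert (by simp), add_comm]

theorem compLabel_mono : Monotone (compLabel μ) := fun a b h => by
  rw [compLabel_eq, compLabel_eq]
  refine Finset.card_le_card fun j => ?_
  simp only [Finset.mem_filter]
  exact fun hj => ⟨hj.1, hj.2.trans h⟩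

theorem lt_compLabel_iff (j i : Fin n) :
    j.val < compLabel μ i ↔ psum μ (j.val + 1) ≤ i.val := by
  rw [compLabel_eq]
  constructor
  · intro h
    by_contra hc
    have hsub : (Finset.univ.filter fun k : Fin n => psum μ (k.val + 1) ≤ i.val) ⊆ Finset.Iio j := by
      intro k hk
      rw [Finset.mem_filter] at hk
      rw [Finset.mem_Iio]
      by_contra hkj
      exact hc ((psum_mono μ (by simpa using hkj)).trans hk.2)
    have := Finset.card_le_card hsub
    rw [Fin.card_Iio] at this
    omega
  · intro h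
    have hsub : Finset.Iic j ⊆ (Finset.univ.filter fun k : Fin n => psum μ (k.val + 1) ≤ i.val) := by
      intro k hk
      rw [Finset.mem_Iic] at hk
      exact Finset.mem_filter.2 ⟨Finset.mem_univ _, (psum_mono μ (by simpa using hk)).trans h⟩
    have := Finset.card_le_card hsub
    rw [Fin.card_Iic] at this
    omega

theorem compLabel_lt (hμ : ∑ i, μ i = n) (i : Fin n) : compLabel μ i < n := by
  by_contra hc
  have h0 : 0 < n := i.pos
  have := (lt_compLabel_iff μ ⟨n - 1, by omega⟩ i).1 (by simp only; omega)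
  unfold psum at this
  simp only at this
  rw [Finset.filter_true_of_mem (fun k _ => by have := k.isLt; omega), hμ] at this
  have := i.isLt
  omega

variable {μ}

/-- The block of a position. -/
def label (hμ : ∑ i, μ i = n) (i : Fin n) : Fin n := ⟨compLabel μ i, compLabel_lt μ hμ i⟩

theorem label_mono (hμ : ∑ i, μ i = n) : Monotone (label hμ) := fun _ _ h => compLabel_mono μ h

theorem card_label_fiber (hμ : ∑ i, μ i = n) (j : Fin n) :
    Fintype.card {i : Fin n // label hμ i = j} = μ j := by
  have hle : psum μ (j.val + 1) ≤ n := by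
    refine (Finset.sum_le_sum_of_subset (Finset.subset_univ _)).trans hμ.le
  have key : ∀ i : Fin n, label hμ i = j ↔ psum μ j.val ≤ i.val ∧ i.val < psum μ (j.val + 1) := by
    intro i
    have h1 := lt_compLabel_iff μ j i
    rw [Fin.ext_iff]
    change compLabel μ i = j.val ↔ _
    rcases Nat.eq_zero_or_pos j.val with h0 | h0
    · have : psum μ j.val = 0 := by simp [psum, h0]
      omega
    · have h2 := lt_compLabel_iff μ ⟨j.val - 1, by omega⟩ i
      simp only [show j.val - 1 + 1 = j.val by omega] at h2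
      omega
  let e : {i : Fin n // label hμ i = j} ≃ Fin (μ j) :=
    { toFun := fun i => ⟨i.1.val - psum μ j.val, by
        have := (key i.1).1 i.2; have := psum_succ μ j; omega⟩
      invFun := fun k => ⟨⟨psum μ j.val + k.val, by have := psum_succ μ j; have := k.isLt; omega⟩,
        (key _).2 (by have := psum_succ μ j; have := k.isLt; simp only; omega)⟩
      left_inv := fun i => by
        have := (key i.1).1 i.2
        ext; simp only; omega
      right_inv := fun k => by ext; simp }
  rw [Fintype.card_congr e, Fintype.card_fin]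

end Labels

section Young

variable {X A : Type*} [Fintype X] [DecidableEq X] [DecidableEq A]

/-- The permutations preserving every fibre. -/
def fibreGroup (a : X → A) : Subgroup (Equiv.Perm X) where
  carrier := {σ | ∀ i, a (σ i) = a i}
  mul_mem' := fun {s} {t} hs ht i => by
    change a (s (t i)) = a i
    rw [hs, ht]
  one_mem' := fun _ => rfl
  inv_mem' := fun {s} hs i => by
    have := hs (s⁻¹ i)
    rwa [← Equiv.Perm.mul_apply, mul_inv_cancel, Equiv.Perm.one_apply, eq_comm] at this

/-- The intersection numbers of the fibres. -/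
def meet (a b : X → A) (σ : Equiv.Perm X) : A → A → ℕ :=
  fun x y => Fintype.card {i : X // a (σ i) = x ∧ b i = y}

theorem meet_invariant (a b : X → A) {h k : Equiv.Perm X} (hh : h ∈ fibreGroup a)
    (hk : k ∈ fibreGroup b) (σ : Equiv.Perm X) : meet a b (h * σ * k) = meet a b σ := by
  funext x y
  refine Fintype.card_congr (Equiv.subtypeEquiv k fun i => ?_)
  simp [Equiv.Perm.mul_apply, hh _, hk _]

theorem meet_separates (a b : X → A) (σ σ' : Equiv.Perm X) (e : meet a b σ = meet a b σ') :
    ∃ h ∈ fibreGroup a, ∃ k ∈ fibreGroup b, σ' = h * σ * k := by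
  have hfib : ∀ c : A × A, Nonempty ({i : X // (a (σ' i), b i) = c} ≃ {i : X // (a (σ i), b i) = c}) := by
    rintro ⟨x, y⟩
    refine ⟨Fintype.equivOfCardEq ?_⟩
    have h2 := congrFun (congrFun e x) y
    unfold meet at h2
    simp only [Prod.mk.injEq]
    exact h2.symm
  let f : Equiv.Perm X := Equiv.ofFiberEquiv fun c => (hfib c).some
  have hf : ∀ i, a (σ (f i)) = a (σ' i) ∧ b (f i) = b i := fun i =>
    Prod.ext_iff.1 (Equiv.ofFiberEquiv_map (g := fun i => (a (σ i), b i)) _ i)
  refine ⟨σ' * f⁻¹ * σ⁻¹, fun i => ?_, f, fun i => (hf i).2, by group⟩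
  have := (hf (f⁻¹ (σ⁻¹ i))).1
  simpa [Equiv.Perm.mul_apply] using this.symm

/-- The matrices with prescribed margins. -/
def Margins [Fintype A] (u v : A → ℕ) : Set (A → A → ℕ) :=
  {N | (∀ x, ∑ y, N x y = u x) ∧ ∀ y, ∑ x, N x y = v y}

theorem range_meet [Fintype A] (a b : X → A) :
    Set.range (meet a b) =
      Margins (fun x => Fintype.card {i : X // a i = x}) (fun y => Fintype.card {i : X // b i = y}) := by
  ext N
  constructor
  · rintro ⟨σ, rfl⟩
    refine ⟨fun x => ?_, fun y => ?_⟩
    · simp only [meet, Fintype.card_subtype]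
      rw [Finset.card_eq_sum_card_fiberwise (f := fun i => b (σ⁻¹ i)) (t := Finset.univ)
        (fun i _ => Finset.mem_univ _)]
      refine Finset.sum_congr rfl fun y _ => Finset.card_bij (fun i _ => σ i) ?_ ?_ ?_
      · intro i hi; simpa using hi
      · intro i _ j _ h; exact σ.injective h
      · intro i hi; exact ⟨σ⁻¹ i, by simpa using hi, by simp⟩
    · simp only [meet, Fintype.card_subtype]
      rw [Finset.card_eq_sum_card_fiberwise (f := fun i => a (σ i)) (t := Finset.univ)
        (fun i _ => Finset.mem_univ _)]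
      exact Finset.sum_congr rfl fun x _ => congrArg Finset.card (by ext i; simp [and_comm])
  · rintro ⟨hu, hv⟩
    have ea : ∀ x, Nonempty ({i : X // a i = x} ≃ (Σ y, Fin (N x y))) := fun x =>
      ⟨Fintype.equivOfCardEq (by simp [Fintype.card_sigma, hu x])⟩
    have eb : ∀ y, Nonempty ({i : X // b i = y} ≃ (Σ x, Fin (N x y))) := fun y =>
      ⟨Fintype.equivOfCardEq (by simp [Fintype.card_sigma, hv y])⟩
    let Ea : X ≃ Σ x, Σ y, Fin (N x y) :=
      (Equiv.sigmaFiberEquiv a).symm.trans (Equiv.sigmaCongrRight fun x => (ea x).some)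
    let Eb : X ≃ Σ y, Σ x, Fin (N x y) :=
      (Equiv.sigmaFiberEquiv b).symm.trans (Equiv.sigmaCongrRight fun y => (eb y).some)
    let sw : (Σ y, Σ x, Fin (N x y)) ≃ Σ x, Σ y, Fin (N x y) :=
      { toFun := fun p => ⟨p.2.1, p.1, p.2.2⟩
        invFun := fun p => ⟨p.2.1, p.1, p.2.2⟩
        left_inv := fun p => rfl
        right_inv := fun p => rfl }
    let σ : Equiv.Perm X := (Eb.trans sw).trans Ea.symm
    have hb : ∀ i, (Eb i).1 = b i := fun i => rfl
    have ha : ∀ i, (Ea i).1 = a i := fun i => rfl
    have hσ : ∀ i, Ea (σ i) = sw (Eb i) := fun i => Ea.apply_symm_apply _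
    refine ⟨σ, funext fun x => funext fun y => ?_⟩
    rw [← Fintype.card_fin (N x y)]
    refine Fintype.card_congr ((Equiv.subtypeEquiv (Eb.trans sw) (q := fun p => p.1 = x ∧ p.2.1 = y)
      fun i => ?_).trans ?_)
    · have h1 : a (σ i) = (sw (Eb i)).1 := by rw [← ha, hσ]
      rw [h1, ← hb]
      rfl
    · exact
        { toFun := fun p => Fin.cast (congrArg₂ N p.2.1 p.2.2) p.1.2.2
          invFun := fun k => ⟨⟨x, y, k⟩, rfl, rfl⟩
          left_inv := by rintro ⟨⟨x', y', k⟩, rfl, rfl⟩; rfl
          right_inv := fun k => rfl }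

end Young

theorem youngSubgroup_eq {n : ℕ} {μ : Fin n → ℕ} (hμ : ∑ i, μ i = n) :
    youngSubgroup μ = fibreGroup (label hμ) := by
  ext σ
  exact forall_congr' fun i => (Fin.ext_iff (a := label hμ (σ i)) (b := label hμ i)).symm

/-- The average on the symmetric group counts matrices with the two margins. -/
theorem average_young {n : ℕ} {ν μ : Fin n → ℕ} (hν : ∑ i, ν i = n) (hμ : ∑ i, μ i = n) :
    (Nat.card (Equiv.Perm (Fin n)) : ℂ)⁻¹ * ∑ σ : Equiv.Perm (Fin n),
        fixedPointCharacter (youngSubgroup ν) σ * fixedPointCharacter (youngSubgroup μ) σ =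
      (Nat.card (Margins ν μ) : ℂ) := by
  rw [youngSubgroup_eq hν, youngSubgroup_eq hμ,
    average_fixed_mul _ _ (meet (label hν) (label hμ))
      (fun h hh k hk σ => meet_invariant _ _ hh hk σ) (meet_separates _ _), range_meet]
  simp only [card_label_fiber]

end Cfsg.Agent.Linear.Unipotent
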